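import Mathlib

/-!
A permutation group on `n` points with `s` orbits has at most `2 ^ (n - s)` conjugacy classes.

The classes are counted through the cosets of pointwise stabilisers of sets `T` with
`|g T ∖ T| ≤ 1`: fixing one more point splits an orbit into `c` pieces, costs the factor `c` and
gains at least `c - 1` orbits.
-/

set_option autoImplicit false

namespace CfsgLib.PermClasses

open Equiv MulAction Finset

variable {α : Type*} [Fintype α] [DecidableEq α]

/-- The number of orbits. -/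
noncomputable def orbs (A : Subgroup (Perm α)) : ℕ := Nat.card (orbitRel.Quotient A α)

/-- The pointwise stabiliser of `T` in `S`. -/
def stab (S : Subgroup (Perm α)) (T : Finset α) : Subgroup (Perm α) :=
  S ⊓ fixingSubgroup (Perm α) (T : Set α)

omit [Fintype α] [DecidableEq α] in
theorem mem_stab {S : Subgroup (Perm α)} {T : Finset α} {a : Perm α} :
    a ∈ stab S T ↔ a ∈ S ∧ ∀ t ∈ T, a t = t := by
  simp [stab, mem_fixingSubgroup_iff]

omit [Fintype α] [DecidableEq α] in
theorem orbs_conj (D : Subgroup (Perm α)) (g : Perm α) :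
    orbs (D.map (MulAut.conj g).toMonoidHom) = orbs D := by
  refine (Nat.card_congr (Quotient.congr g fun x y => ?_)).symm
  change x ∈ orbit D y ↔ g x ∈ orbit (D.map (MulAut.conj g).toMonoidHom) (g y)
  constructor
  · rintro ⟨⟨d, hd⟩, rfl⟩
    exact ⟨⟨_, d, hd, rfl⟩, show g (d (g⁻¹ (g y))) = g (d y) by simp⟩
  · rintro ⟨⟨_, d, hd, rfl⟩, h⟩
    replace h : g (d (g⁻¹ (g y))) = g x := h
    exact ⟨⟨d, hd⟩, g.injective (show g (d y) = g x by simpa using h)⟩

omit [DecidableEq α] in
/-- Representatives of the pieces of one orbit under a smaller group, with the orbit count. -/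
theorem pieces {D A : Subgroup (Perm α)} (hDA : D ≤ A) (β : α) :
    ∃ P : Finset (Perm α), (↑P : Set (Perm α)) ⊆ A ∧
      (∀ a ∈ A, ∃ p ∈ P, ∃ d ∈ D, d (a β) = p β) ∧ orbs A + P.card ≤ orbs D + 1 := by
  classical
  let qA : α → orbitRel.Quotient A α := Quotient.mk''
  let qD : α → orbitRel.Quotient D α := Quotient.mk''
  let f : orbitRel.Quotient D α → orbitRel.Quotient A α := Quotient.map' id fun x y h => by
    obtain ⟨⟨d, hd⟩, rfl⟩ := h
    exact ⟨⟨d, hDA hd⟩, rfl⟩
  let F := {q // f q = qA β}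
  have hF : ∀ q : F, ∃ a ∈ A, qD (a β) = q.1 := by
    rintro ⟨q, hq⟩
    induction q using Quotient.inductionOn' with
    | h x =>
      obtain ⟨⟨a, ha⟩, rfl⟩ := Quotient.exact' hq
      exact ⟨a, ha, rfl⟩
  choose p hp hpq using hF
  refine ⟨univ.image p, by simpa [Set.subset_def] using hp, fun a ha => ?_, ?_⟩
  · let q : F := ⟨qD (a β), Quotient.sound' ⟨⟨a, ha⟩, rfl⟩⟩
    obtain ⟨⟨d, hd⟩, e⟩ := Quotient.exact' (hpq q)
    exact ⟨p q, mem_image_of_mem _ (mem_univ _), d, hd, e⟩
  · have hc : (univ.image p).card ≤ Nat.card F := card_image_le.trans (by simp [Nat.card_eq_fintype_card])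
    have hs : Function.Surjective f := by
      intro q
      induction q using Quotient.inductionOn' with
      | h x => exact ⟨qD x, rfl⟩
    obtain ⟨r, hr⟩ := hs.hasRightInverse
    have hi : Function.Injective (Sum.elim (fun q : {q // q ≠ qA β} => r q.1) (Subtype.val : F → _)) := by
      refine Function.Injective.sumElim (fun a b h => Subtype.ext ?_) Subtype.val_injective fun a b h => a.2 ?_
      · rw [← hr a.1, h, hr b.1]
      · rw [← hr a.1, h, b.2]
    have h1 := Nat.card_le_card_of_injective _ hi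
    have h2 : Nat.card (orbitRel.Quotient A α) ≤ Nat.card {q // q ≠ qA β} + 1 := by
      rw [Nat.card_eq_fintype_card, Nat.card_eq_fintype_card, Fintype.card_subtype_compl,
        Fintype.card_subtype_eq]
      omega
    rw [Nat.card_sum] at h1
    simp only [orbs]
    have hc' : (univ.image p).card ≤ Nat.card {q // f q = qA β} := hc
    omega

/-- The classes of the coset `g S_T` under conjugation by `S_T ⊓ S_{g T}`. -/
theorem coset_classes (S : Subgroup (Perm α)) (T : Finset α) (g : Perm α) (hg : g ∈ S)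
    (hT : ∃ b, T.image g ⊆ insert b T) :
    ∃ R : Finset (Perm α), R.card * 2 ^ orbs (stab S T) ≤ 2 ^ Fintype.card α ∧
      ∀ a ∈ stab S T, ∃ b ∈ S, (∀ t ∈ T, b t = t ∧ b (g t) = g t) ∧ b * (g * a) * b⁻¹ ∈ R := by
  induction h : Fintype.card α - T.card using Nat.strong_induction_on generalizing T g with
  | _ m ih =>
  by_cases huniv : T = univ
  · refine ⟨{g}, ?_, fun a ha => ⟨1, one_mem _, fun t _ => ⟨rfl, rfl⟩, ?_⟩⟩
    · rw [card_singleton, one_mul]
      refine Nat.pow_le_pow_right two_pos ?_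
      exact (Nat.card_le_card_of_surjective _ Quotient.mk''_surjective).trans (Nat.card_eq_fintype_card).le
    · have : a = 1 := Equiv.ext fun x => (mem_stab.1 ha).2 x (by simp [huniv])
      simp [this]
  obtain ⟨β, hβ, hgT⟩ : ∃ β ∉ T, T.image g ⊆ insert β T := by
    obtain ⟨b, hb⟩ := hT
    by_cases hbT : b ∈ T
    · obtain ⟨β, hβ⟩ : ∃ β, β ∉ T := by
        by_contra! hc
        exact huniv (eq_univ_iff_forall.2 hc)
      refine ⟨β, hβ, hb.trans ?_⟩
      rw [insert_eq_of_mem hbT]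
      exact subset_insert _ _
    · exact ⟨b, hbT, hb⟩
  set T' := insert β T with hT'
  set D := (stab S T').map (MulAut.conj g⁻¹).toMonoidHom with hD
  have hDA : D ≤ stab S T := by
    rintro _ ⟨b, hb, rfl⟩
    obtain ⟨hbS, hb'⟩ := mem_stab.1 hb
    refine mem_stab.2 ⟨?_, fun t ht => ?_⟩
    · simpa using S.mul_mem (S.mul_mem (S.inv_mem hg) hbS) hg
    · simp [hb' _ (hgT (mem_image_of_mem g ht))]
  obtain ⟨P, hP, hPc, hPn⟩ := pieces hDA β
  rw [orbs_conj] at hPn
  have hlt : Fintype.card α - T'.card < m := by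
    have := card_le_univ T'
    rw [hT', card_insert_of_notMem hβ] at this ⊢
    omega
  have hchild : ∀ p : P, ∃ R : Finset (Perm α), R.card * 2 ^ orbs (stab S T') ≤ 2 ^ Fintype.card α ∧
      ∀ a ∈ stab S T', ∃ b ∈ S, (∀ t ∈ T', b t = t ∧ b ((g * p.1) t) = (g * p.1) t) ∧
        b * (g * p.1 * a) * b⁻¹ ∈ R := by
    rintro ⟨p, hp⟩
    obtain ⟨hpS, hp'⟩ := mem_stab.1 (hP hp)
    refine ih _ hlt T' (g * p) (S.mul_mem hg hpS) ⟨(g * p) β, ?_⟩ rfl
    rw [hT', image_insert]
    refine insert_subset (mem_insert_self _ _) ?_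
    intro x hx
    obtain ⟨t, ht, rfl⟩ := mem_image.1 hx
    change g (p t) ∈ _
    rw [hp' t ht]
    exact mem_insert_of_mem (hgT (mem_image_of_mem g ht))
  choose R hR hRc using hchild
  refine ⟨univ.biUnion R, ?_, fun a ha => ?_⟩
  · have h1 : (univ.biUnion R).card * 2 ^ orbs (stab S T') ≤ P.card * 2 ^ Fintype.card α := by
      refine (Nat.mul_le_mul_right _ card_biUnion_le).trans ?_
      rw [sum_mul]
      refine (sum_le_sum fun p _ => hR p).trans ?_
      simp
    obtain ⟨p, hp, -⟩ := hPc 1 (one_mem _)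
    have hP0 : 0 < P.card := card_pos.2 ⟨p, hp⟩
    have h2 : 2 ^ orbs (stab S T) * 2 ^ (P.card - 1) ≤ 2 ^ orbs (stab S T') := by
      rw [← pow_add]
      exact Nat.pow_le_pow_right two_pos (by omega)
    have h3 : P.card ≤ 2 ^ (P.card - 1) := by
      have := Nat.lt_two_pow_self (n := P.card - 1)
      omega
    refine Nat.le_of_mul_le_mul_right ?_ hP0
    calc (univ.biUnion R).card * 2 ^ orbs (stab S T) * P.card
        ≤ (univ.biUnion R).card * 2 ^ orbs (stab S T) * 2 ^ (P.card - 1) := Nat.mul_le_mul_left _ h3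
      _ ≤ (univ.biUnion R).card * 2 ^ orbs (stab S T') := by
          rw [mul_assoc]
          exact Nat.mul_le_mul_left _ h2
      _ ≤ P.card * 2 ^ Fintype.card α := h1
      _ = 2 ^ Fintype.card α * P.card := mul_comm _ _
  · obtain ⟨p, hp, d, ⟨b, hb, rfl⟩, hd⟩ := hPc a ha
    obtain ⟨hbS, hb'⟩ := mem_stab.1 hb
    obtain ⟨haS, ha'⟩ := mem_stab.1 ha
    obtain ⟨hpS, hp'⟩ := mem_stab.1 (hP hp)
    set d := (MulAut.conj g⁻¹).toMonoidHom b with hd'
    obtain ⟨hdS, hdt⟩ := mem_stab.1 (hDA ⟨b, hb, hd'.symm⟩)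
    have hmem : p⁻¹ * d * a * b⁻¹ ∈ stab S T' := by
      refine mul_mem (mem_stab.2 ⟨S.mul_mem (S.mul_mem (S.inv_mem hpS) hdS) haS, ?_⟩) (inv_mem hb)
      intro t ht
      rw [Perm.mul_apply, Perm.mul_apply, Perm.inv_eq_iff_eq]
      rcases mem_insert.1 ht with rfl | ht
      · exact hd
      · rw [ha' t ht, hdt t ht, hp' t ht]
    obtain ⟨c, hc, hc1, hc2⟩ := hRc ⟨p, hp⟩ _ hmem
    refine ⟨c * b, S.mul_mem hc hbS, fun t ht => ?_, mem_biUnion.2 ⟨⟨p, hp⟩, mem_univ _, ?_⟩⟩
    · have h1 := hc1 t (mem_insert_of_mem ht)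
      have h2 : (g * p) t = g t := by rw [Perm.mul_apply, hp' t ht]
      exact ⟨by rw [Perm.mul_apply, hb' t (mem_insert_of_mem ht), h1.1],
        by rw [Perm.mul_apply, hb' _ (hgT (mem_image_of_mem g ht)), ← h2, h1.2]⟩
    · convert hc2 using 1
      simp [hd']
      group

/-- The bound `k(S) ≤ 2 ^ (n - orbits)`. -/
theorem card_conjClasses_mul (S : Subgroup (Perm α)) :
    Nat.card (ConjClasses S) * 2 ^ orbs S ≤ 2 ^ Fintype.card α := by
  classical
  have hS : stab S ∅ = S := by ext; simp [mem_stab]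
  obtain hα | hα := isEmpty_or_nonempty α
  · have : Subsingleton (ConjClasses S) := Quotient.instSubsingletonQuotient _
    have : IsEmpty (orbitRel.Quotient S α) := ⟨fun q => Quotient.inductionOn' q isEmptyElim⟩
    simpa [orbs] using Finite.card_le_one_iff_subsingleton.2 ‹Subsingleton (ConjClasses S)›
  obtain ⟨R, hR, hcov⟩ := coset_classes S ∅ 1 (one_mem _) ⟨Classical.arbitrary α, by simp⟩
  rw [hS] at hR hcov
  refine (Nat.mul_le_mul_right _ ?_).trans hR
  have hcov' : ∀ c : ConjClasses S, ∃ r : R, ∃ x : S, ConjClasses.mk x = c ∧ (x : Perm α) = r.1 := by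
    intro c
    obtain ⟨a, rfl⟩ := ConjClasses.mk_surjective c
    obtain ⟨b, hb, -, hmem⟩ := hcov a.1 a.2
    refine ⟨⟨_, hmem⟩, ⟨b, hb⟩ * a * ⟨b, hb⟩⁻¹, ?_, by simp⟩
    exact ConjClasses.mk_eq_mk_iff_isConj.2 (isConj_iff.2 ⟨(⟨b, hb⟩ : S)⁻¹, by group⟩)
  choose r x hx hxr using hcov'
  refine (Nat.card_le_card_of_injective r fun c₁ c₂ h => ?_).trans (by simp)
  rw [← hx c₁, ← hx c₂, Subtype.ext ((hxr c₁).trans ((congrArg Subtype.val h).trans (hxr c₂).symm))]

omit [DecidableEq α] in
/-- A permutation group of degree `n` has at most `2 ^ (n - 1)` classes. -/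
theorem card_conjClasses_le (S : Subgroup (Perm α)) :
    Nat.card (ConjClasses S) ≤ 2 ^ (Fintype.card α - 1) := by
  classical
  obtain hα | hα := isEmpty_or_nonempty α
  · have : Subsingleton (ConjClasses S) := Quotient.instSubsingletonQuotient _
    exact (Finite.card_le_one_iff_subsingleton.2 this).trans (Nat.one_le_pow _ _ two_pos)
  have h := card_conjClasses_mul S
  have : Nonempty (orbitRel.Quotient S α) := ⟨Quotient.mk'' (Classical.arbitrary α)⟩
  have h0 : 0 < orbs S := Nat.card_pos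
  have h1 : 0 < Fintype.card α := Fintype.card_pos
  refine Nat.le_of_mul_le_mul_right (c := 2) ?_ two_pos
  rw [← pow_succ, Nat.sub_add_cancel h1]
  exact (Nat.mul_le_mul_left _ (Nat.le_self_pow h0.ne' 2)).trans h

end CfsgLib.PermClasses
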